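import Cfsg.Agent.H680.IF.EngA
import Cfsg.Agent.H999.IF.EngB
import Cfsg.Agent.H809.IF.EngC

/-!
# S5719: the END lemma (helper709; replaces Brauer-Suzuki)

`A` has one class of involutions `z`, a subgroup `K ≤ A` without proper subgroups of index `< m`, `z` is the only
conjugate of `z` centralised by `K`, and `|z^T| ≤ |C_T(z) : C_A(z)|^5 m`. Then `A = C_T(z)`.
-/

set_option autoImplicit false
set_option linter.unusedSectionVars false

namespace Cfsg.Agent.H709.IF

open Subgroup Cfsg.Agent.H209.Fxy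

variable {T : Type*} [Group T] [Finite T] {A : Subgroup T} {Γ : Subgroup (MulAut T)}

theorem relIndex_conj (C A : Subgroup T) {x : T} (hx : x ∈ A) :
    (C.map (MulAut.conj x).toMonoidHom).relIndex A = C.relIndex A := by
  have h1 : A.map (MulAut.conj x).toMonoidHom = A := by
    ext y
    rw [Subgroup.mem_map]
    constructor
    · rintro ⟨a, ha, rfl⟩
      exact A.mul_mem (A.mul_mem hx ha) (A.inv_mem hx)
    · intro hy
      refine ⟨x⁻¹ * y * x, A.mul_mem (A.mul_mem (A.inv_mem hx) hy) hx, ?_⟩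
      show x * (x⁻¹ * y * x) * x⁻¹ = y
      group
  have h2 := Subgroup.relIndex_map_map_of_injective C A (f := (MulAut.conj x).toMonoidHom) (MulAut.conj x).injective
  rw [h1] at h2
  exact h2

theorem map_centralizer (z x : T) :
    (centralizer ({z} : Set T)).map (MulAut.conj x).toMonoidHom = centralizer ({x * z * x⁻¹} : Set T) := by
  ext y
  rw [Subgroup.mem_map, mem_centralizer_singleton_iff]
  constructor
  · rintro ⟨a, ha, rfl⟩
    rw [mem_centralizer_singleton_iff] at ha
    show x * a * x⁻¹ * (x * z * x⁻¹) = x * z * x⁻¹ * (x * a * x⁻¹)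
    have h1 : x * a * x⁻¹ * (x * z * x⁻¹) = x * (a * z) * x⁻¹ := by group
    rw [h1, ha]
    group
  · intro hy
    refine ⟨x⁻¹ * y * x, ?_, ?_⟩
    · rw [mem_centralizer_singleton_iff]
      have h1 : x⁻¹ * y * x * z = x⁻¹ * (y * (x * z * x⁻¹)) * x := by group
      rw [h1, hy]
      group
    · show x * (x⁻¹ * y * x) * x⁻¹ = y
      group

/-- **END** -/
theorem end_small [IsSimpleGroup T] (hna : ∃ a b : T, a * b ≠ b * a) (h : IF A Γ) {z : T} (hz : z ∈ A)
    (hz2 : orderOf z = 2) (hconj : ∀ x ∈ A, orderOf x = 2 → IsConj z x) {K : Subgroup T} (hKA : K ≤ A) {m f0 : ℕ}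
    (hKm : ∀ H : Subgroup T, H.relIndex K < m → K ≤ H)
    (hK : ∀ x : T, IsConj z x → (∀ k ∈ K, k * x = x * k) → x = z) {y : T} (hy : y * z = z * y) (hyA : y ∉ A)
    (hf0 : f0 ≤ A.relIndex (centralizer ({z} : Set T)))
    (hnum : (centralizer ({z} : Set T)).index ≤ f0 ^ 5 * m) : False := by
  set C := centralizer ({z} : Set T) with hC
  set f := A.relIndex C with hf
  have hf6 : f ^ 6 < A.index := ((Cfsg.Agent.H999.IFB.IF.E2' h hna hz hz2).2.2.2.2 C le_rfl).2
  have hfin : ∀ H K : Subgroup T, H.relIndex K ≠ 0 := fun H K => Subgroup.index_ne_zero_of_finite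
  -- the number of `A`-conjugates of `z`
  have hcnt : C.relIndex A * A.index = f * C.index := by
    have h1 : (C ⊓ A).relIndex A * A.index = (C ⊓ A).index := relIndex_mul_index inf_le_right
    have h2 : (A ⊓ C).relIndex C * C.index = (A ⊓ C).index := relIndex_mul_index inf_le_right
    rw [inf_relIndex_right] at h1 h2
    rw [h1, hf, h2, inf_comm]
  have hfpos : 0 < f := Nat.pos_of_ne_zero (hfin _ _)
  have hapos : 0 < C.relIndex A := Nat.pos_of_ne_zero (hfin _ _)
  have ham : C.relIndex A < m := by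
    by_contra hcon
    push Not at hcon
    have h1 : f ^ 6 * C.relIndex A < f * C.index := by
      rw [← hcnt, mul_comm]
      exact Nat.mul_lt_mul_of_pos_left hf6 hapos
    have h2 : f * C.index ≤ f * (f0 ^ 5 * m) := Nat.mul_le_mul_left _ hnum
    have h3 : f * (f0 ^ 5 * m) ≤ f * (f ^ 5 * C.relIndex A) :=
      Nat.mul_le_mul_left _ (Nat.mul_le_mul (Nat.pow_le_pow_left hf0 5) hcon)
    have h4 : f * (f ^ 5 * C.relIndex A) = f ^ 6 * C.relIndex A := by ring
    omega
  -- `z` is central in `A`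
  have hcen : ∀ x ∈ A, x * z = z * x := by
    intro x hx
    have h1 : (centralizer ({x * z * x⁻¹} : Set T)).relIndex K < m := by
      rw [← map_centralizer, ← hC]
      have h2 := relIndex_conj C A hx
      have h3 : (C.map (MulAut.conj x).toMonoidHom).relIndex K ≤ (C.map (MulAut.conj x).toMonoidHom).relIndex A :=
        relIndex_le_of_le_right hKA (hfin _ _)
      omega
    have h2 := hKm _ h1
    have h3 : x * z * x⁻¹ = z := by
      apply hK
      · exact isConj_iff.2 ⟨x, rfl⟩
      · intro k hk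
        exact mem_centralizer_singleton_iff.1 (h2 hk)
    rw [mul_inv_eq_iff_eq_mul] at h3
    exact h3
  -- `⟨z⟩` is invariant
  have hinv : ∀ σ ∈ Γ, σ z = z := by
    intro σ hσ
    have h1 : σ z ∈ A := (h.inv σ hσ z).2 hz
    apply hK
    · apply hconj _ h1
      rw [MulEquiv.orderOf_eq, hz2]
    · intro k hk
      have h2 : σ.symm k ∈ A := by
        rw [← h.inv σ hσ, MulEquiv.apply_symm_apply]
        exact hKA hk
      have h3 := congrArg σ (hcen _ h2)
      rw [map_mul, map_mul, MulEquiv.apply_symm_apply] at h3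
      exact h3
  apply hyA
  refine Cfsg.Agent.H680.Fxy.IF.norm h (K := zpowers z) ?_ ?_ ?_ ?_
  · rw [zpowers_le]
    exact hz
  · rintro σ hσ _ ⟨n, rfl⟩
    refine ⟨n, ?_⟩
    show z ^ n = σ (z ^ n)
    rw [map_zpow, hinv σ hσ]
  · intro h1
    rw [zpowers_eq_bot] at h1
    rw [h1, orderOf_one] at hz2
    omega
  · rintro _ ⟨n, rfl⟩
    refine ⟨n, ?_⟩
    show z ^ n = y * z ^ n * y⁻¹
    have h1 : Commute y (z ^ n) := (show Commute y z from hy).zpow_right n
    rw [h1.eq, mul_inv_cancel_right]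

end Cfsg.Agent.H709.IF
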