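import Mathlib

/-!
# S5719: subgroups of central products of quasisimple groups (helper709)

`fam` : four commuting homomorphisms `f i : S →* T`, `S` quasisimple (e.g. `SL₂(q)`); `A ≤ T` contains no `f i (S)`.
Then `|K : K ∩ A|` (`K` = the product) is at least `M m`, or `A` projects properly on every factor.
-/

set_option autoImplicit false
set_option linter.unusedSectionVars false

namespace Cfsg.Agent.H709.IF

open Subgroup

section two

variable {S H : Type*} [Group S] [Finite S] [Group H] [Finite H]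

theorem index_snd (Y : Subgroup (S × H)) :
    Y.index = (Y.map (MonoidHom.snd S H)).index * (Y.comap (MonoidHom.inl S H)).index := by
  classical
  have h1 : Nat.card Y = Nat.card (Y.map (MonoidHom.snd S H)) * Nat.card (Y.comap (MonoidHom.inl S H)) := by
    let f : Y →* H := (MonoidHom.snd S H).comp Y.subtype
    have h2 := f.ker.card_eq_card_quotient_mul_card_subgroup
    rw [h2]
    congr 1
    · have h3 : f.range = Y.map (MonoidHom.snd S H) := by
        rw [MonoidHom.range_comp, Subgroup.range_subtype]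
      rw [← h3]
      exact Nat.card_congr (QuotientGroup.quotientKerEquivRange f).toEquiv
    · refine Nat.card_congr
        { toFun := fun y => ⟨y.1.1.1, ?_⟩
          invFun := fun s => ⟨⟨(s.1, 1), s.2⟩, rfl⟩
          left_inv := ?_
          right_inv := fun s => rfl }
      · have h4 : y.1.1.2 = 1 := y.2
        show (y.1.1.1, (1 : H)) ∈ Y
        rw [← h4]
        exact y.1.2
      · rintro ⟨⟨⟨a, b⟩, hy⟩, hb⟩
        have h4 : b = 1 := hb
        subst h4
        rfl
  have h2 := Y.index_mul_card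
  have h3 := (Y.map (MonoidHom.snd S H)).index_mul_card
  have h4 := (Y.comap (MonoidHom.inl S H)).index_mul_card
  have h5 : Nat.card (S × H) = Nat.card H * Nat.card S := by rw [Nat.card_prod, mul_comm]
  have h6 : 0 < Nat.card Y := Nat.card_pos
  apply Nat.eq_of_mul_eq_mul_right h6
  rw [h2, h5, ← h3, ← h4, h1]
  ring

/-- every proper subgroup has index at least `m` -/
def MinIx (G : Type*) [Group G] (m : ℕ) : Prop := ∀ H : Subgroup G, H ≠ ⊤ → m ≤ H.index

theorem MinIx.prod {m : ℕ} (hS : MinIx S m) (hH : MinIx H m) : MinIx (S × H) m := by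
  intro Y hY
  rw [index_snd]
  have h0 : 0 < (Y.map (MonoidHom.snd S H)).index := Nat.pos_of_ne_zero Subgroup.index_ne_zero_of_finite
  have h0' : 0 < (Y.comap (MonoidHom.inl S H)).index := Nat.pos_of_ne_zero Subgroup.index_ne_zero_of_finite
  by_cases h1 : (Y.comap (MonoidHom.inl S H)) = ⊤
  · have h2 : (Y.map (MonoidHom.snd S H)) ≠ ⊤ := by
      intro h2
      apply hY
      rw [eq_top_iff]
      rintro ⟨s, x⟩ -
      have h3 : x ∈ Y.map (MonoidHom.snd S H) := by rw [h2]; trivial
      obtain ⟨⟨a, b⟩, hab, rfl⟩ := h3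
      have h4 : s * a⁻¹ ∈ Y.comap (MonoidHom.inl S H) := by rw [h1]; trivial
      have h5 := Y.mul_mem h4 hab
      have h6 : MonoidHom.inl S H (s * a⁻¹) * (a, b) = (s, b) := by
        ext <;> simp
      rw [h6] at h5
      exact h5
    exact (hH _ h2).trans (Nat.le_mul_of_pos_right _ h0')
  · exact (hS _ h1).trans (Nat.le_mul_of_pos_left _ h0)

end two

section factor

variable {S H T : Type*} [Group S] [Finite S] [Group H] [Finite H] [Group T] [Finite T] (A : Subgroup T)
  (f : S →* T) (g : H →* T) (hc : ∀ s h, Commute (f s) (g h))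

/-- the projection of `A ∩ f(S) g(H)` to the second factor -/
def prj : Subgroup H := (A.comap (f.noncommCoprod g hc)).map (MonoidHom.snd S H)

theorem mem_prj {h : H} : h ∈ prj A f g hc ↔ ∃ s : S, f s * g h ∈ A := by
  constructor
  · rintro ⟨⟨a, b⟩, hab, rfl⟩
    exact ⟨a, hab⟩
  · rintro ⟨s, hs⟩
    exact ⟨(s, h), hs, rfl⟩

theorem relIndex_range {G : Type*} [Group G] (k : G →* T) : A.relIndex k.range = (A.comap k).index := by
  rw [Subgroup.index_comap]

/-- `|f(S) g(H) : A ∩ f(S) g(H)|` -/
theorem relIndex_sup : A.relIndex (f.range ⊔ g.range) = (prj A f g hc).index * (A.comap f).index := by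
  rw [← MonoidHom.noncommCoprod_range f g hc, relIndex_range, index_snd]
  congr 2
  ext x
  rw [mem_comap, mem_comap, mem_comap]
  simp

end factor

section fam

variable {S T : Type*} [Group S] [Finite S] [Group T] [Finite T] (A : Subgroup T) (f : Fin 4 → (S →* T))
  (hcomm : ∀ i j, i ≠ j → ∀ s t, Commute (f i s) (f j t))

include hcomm

/-- the product of the last three -/
def last3 : S × S × S →* T :=
  (f 1).noncommCoprod ((f 2).noncommCoprod (f 3) (hcomm 2 3 (by decide))) (by
    rintro s ⟨t, u⟩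
    exact (hcomm 1 2 (by decide) s t).mul_right (hcomm 1 3 (by decide) s u))

theorem last3_apply (s t u : S) : last3 f hcomm (s, t, u) = f 1 s * (f 2 t * f 3 u) := rfl

theorem last3_comm : ∀ s x, Commute (f 0 s) (last3 f hcomm x) := by
  rintro s ⟨t, u, v⟩
  exact (hcomm 0 1 (by decide) s t).mul_right ((hcomm 0 2 (by decide) s u).mul_right (hcomm 0 3 (by decide) s v))

theorem range_sup : (f 0).range ⊔ (last3 f hcomm).range = ⨆ i, (f i).range := by
  rw [last3, MonoidHom.noncommCoprod_range, MonoidHom.noncommCoprod_range]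
  apply le_antisymm
  · refine sup_le (le_iSup (fun i => (f i).range) 0) (sup_le (le_iSup (fun i => (f i).range) 1)
      (sup_le (le_iSup (fun i => (f i).range) 2) (le_iSup (fun i => (f i).range) 3)))
  · refine iSup_le ?_
    intro i
    fin_cases i
    · exact le_sup_left
    · exact le_sup_of_le_right le_sup_left
    · exact le_sup_of_le_right (le_sup_of_le_right le_sup_left)
    · exact le_sup_of_le_right (le_sup_of_le_right le_sup_right)

theorem conj_last3 (x : S × S × S) (t : S) :
    last3 f hcomm x * f 1 t * (last3 f hcomm x)⁻¹ = f 1 (x.1 * t * x.1⁻¹) ∧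
      last3 f hcomm x * f 2 t * (last3 f hcomm x)⁻¹ = f 2 (x.2.1 * t * x.2.1⁻¹) := by
  obtain ⟨a, b, c⟩ := x
  constructor
  · have h1 : (f 1 t, 1) = ((f 1 t, 1) : T × T) := rfl
    have h2 : f 1 t = last3 f hcomm (t, 1, 1) := by rw [last3_apply, map_one, map_one, mul_one, mul_one]
    rw [h2, ← map_inv, ← map_mul, ← map_mul]
    have h3 : ((a, b, c) * (t, 1, 1) * (a, b, c)⁻¹ : S × S × S) = (a * t * a⁻¹, 1, 1) := by
      ext <;> simp
    rw [h3, last3_apply, map_one, map_one, mul_one, mul_one]
  · have h2 : f 2 t = last3 f hcomm (1, t, 1) := by rw [last3_apply, map_one, map_one, mul_one, one_mul]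
    rw [h2, ← map_inv, ← map_mul, ← map_mul]
    have h3 : ((a, b, c) * (1, t, 1) * (a, b, c)⁻¹ : S × S × S) = (1, b * t * b⁻¹, 1) := by
      ext <;> simp
    rw [h3, last3_apply, map_one, map_one, mul_one, one_mul]

/-- **the graph case** -/
theorem graph (hperf : commutator S = ⊤) (hN : ∀ N : Subgroup S, N.Normal → N = ⊤ ∨ N ≤ center S)
    (h1 : ∀ s : S, ∃ x, f 0 s * last3 f hcomm x ∈ A) (h2 : ∀ x, ∃ s : S, f 0 s * last3 f hcomm x ∈ A) :
    (∀ s, f 0 s ∈ A) ∨ (∀ s, f 1 s ∈ A) ∨ (∀ s, f 2 s ∈ A) := by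
  -- the groups `R i`
  have key : ∀ i : Fin 4, i ≠ 0 → (∀ (x : S × S × S) (t : S), ∃ t', last3 f hcomm x * f i t * (last3 f hcomm x)⁻¹ = f i t') →
      (∀ t : S, ∃ s, f 0 s * f i t ∈ A) →
      (∀ s : S, ∃ t, f 0 s * f i t ∈ A) ∨ (∀ s, f i s ∈ A) := by
    intro i hi hconj hlift
    let R : Subgroup S :=
      { carrier := {s | ∃ t, f 0 s * f i t ∈ A}
        one_mem' := ⟨1, by rw [map_one, map_one, mul_one]; exact A.one_mem⟩
        mul_mem' := by
          rintro a b ⟨t, ht⟩ ⟨u, hu⟩
          refine ⟨t * u, ?_⟩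
          have h3 := A.mul_mem ht hu
          have h4 : f 0 a * f i t * (f 0 b * f i u) = f 0 (a * b) * f i (t * u) := by
            rw [map_mul, map_mul, mul_assoc, ← mul_assoc (f i t), ← (hcomm 0 i hi.symm b t).eq]
            group
          rwa [h4] at h3
        inv_mem' := by
          rintro a ⟨t, ht⟩
          refine ⟨t⁻¹, ?_⟩
          have h3 := A.inv_mem ht
          rw [(hcomm 0 i hi.symm a t).eq, mul_inv_rev, ← map_inv, ← map_inv] at h3
          exact h3 }
    have hR : R.Normal := by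
      constructor
      rintro s ⟨t, ht⟩ u
      obtain ⟨x, hx⟩ := h1 u
      obtain ⟨t', ht'⟩ := hconj x t
      refine ⟨t', ?_⟩
      have h3 := A.mul_mem (A.mul_mem hx ht) (A.inv_mem hx)
      have h4 : f 0 u * last3 f hcomm x * (f 0 s * f i t) * (f 0 u * last3 f hcomm x)⁻¹ =
          f 0 (u * s * u⁻¹) * (last3 f hcomm x * f i t * (last3 f hcomm x)⁻¹) := by
        have c1 : ∀ v, last3 f hcomm x * f 0 v = f 0 v * last3 f hcomm x := fun v => (last3_comm f hcomm v x).eq.symm
        have c2 : (last3 f hcomm x * f i t * (last3 f hcomm x)⁻¹) * (f 0 u)⁻¹ =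
            (f 0 u)⁻¹ * (last3 f hcomm x * f i t * (last3 f hcomm x)⁻¹) := by
          rw [ht', ← map_inv]
          exact (hcomm 0 i hi.symm u⁻¹ t').eq.symm
        rw [map_mul, map_mul, map_inv, mul_inv_rev]
        calc f 0 u * last3 f hcomm x * (f 0 s * f i t) * ((last3 f hcomm x)⁻¹ * (f 0 u)⁻¹)
            = f 0 u * (last3 f hcomm x * f 0 s) * f i t * (last3 f hcomm x)⁻¹ * (f 0 u)⁻¹ := by group
          _ = f 0 u * f 0 s * ((last3 f hcomm x * f i t * (last3 f hcomm x)⁻¹) * (f 0 u)⁻¹) := by rw [c1]; group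
          _ = _ := by rw [c2]; group
      rw [h4, ht'] at h3
      exact h3
    rcases hN R hR with h3 | h3
    · left
      intro s
      have h4 : s ∈ R := by rw [h3]; trivial
      exact h4
    · right
      intro s
      have h5 : commutator S ≤ A.comap (f i) := by
        rw [commutator_def, Subgroup.commutator_le]
        intro t _ u _
        obtain ⟨a, ha⟩ := hlift t
        obtain ⟨b, hb⟩ := hlift u
        have ca : a ∈ center S := h3 ⟨t, ha⟩
        have h6 := A.mul_mem (A.mul_mem (A.mul_mem ha hb) (A.inv_mem ha)) (A.inv_mem hb)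
        have cab : a * b * a⁻¹ * b⁻¹ = 1 := by
          rw [mem_center_iff] at ca
          rw [← ca b]
          group
        have h7 : f 0 a * f i t * (f 0 b * f i u) * (f 0 a * f i t)⁻¹ * (f 0 b * f i u)⁻¹ =
            f 0 (a * b * a⁻¹ * b⁻¹) * f i (t * u * t⁻¹ * u⁻¹) := by
          have e1 : (f 0 a * f i t)⁻¹ = f 0 a⁻¹ * f i t⁻¹ := by
            rw [(hcomm 0 i hi.symm a t).eq, mul_inv_rev, map_inv, map_inv]
          have e2 : (f 0 b * f i u)⁻¹ = f 0 b⁻¹ * f i u⁻¹ := by
            rw [(hcomm 0 i hi.symm b u).eq, mul_inv_rev, map_inv, map_inv]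
          have c : ∀ (p p' t t' : S), f 0 p * f i t * (f 0 p' * f i t') = f 0 (p * p') * f i (t * t') := by
            intro p p' t t'
            rw [map_mul, map_mul, mul_assoc, ← mul_assoc (f i t), ← (hcomm 0 i hi.symm p' t).eq]
            group
          rw [e1, e2, c, c, c]
        rw [h7, cab, map_one, one_mul] at h6
        exact h6
      rw [hperf] at h5
      exact h5 (mem_top s)
  have k1 := key 1 (by decide) (fun x t => ⟨_, (conj_last3 f hcomm x t).1⟩) (by
    intro t
    obtain ⟨s, hs⟩ := h2 (t, 1, 1)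
    refine ⟨s, ?_⟩
    rw [last3_apply, map_one, map_one, mul_one, mul_one] at hs
    exact hs)
  have k2 := key 2 (by decide) (fun x t => ⟨_, (conj_last3 f hcomm x t).2⟩) (by
    intro t
    obtain ⟨s, hs⟩ := h2 (1, t, 1)
    refine ⟨s, ?_⟩
    rw [last3_apply, map_one, map_one, mul_one, one_mul] at hs
    exact hs)
  rcases k1 with k1 | k1
  · rcases k2 with k2 | k2
    · left
      intro s
      have h5 : commutator S ≤ A.comap (f 0) := by
        rw [commutator_def, Subgroup.commutator_le]
        intro a _ b _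
        obtain ⟨t, ht⟩ := k1 a
        obtain ⟨u, hu⟩ := k2 b
        have h6 := A.mul_mem (A.mul_mem (A.mul_mem ht hu) (A.inv_mem ht)) (A.inv_mem hu)
        have h7 : f 0 a * f 1 t * (f 0 b * f 2 u) * (f 0 a * f 1 t)⁻¹ * (f 0 b * f 2 u)⁻¹ = f 0 (a * b * a⁻¹ * b⁻¹) := by
          have c01 : ∀ p q, f 1 p * f 0 q = f 0 q * f 1 p := fun p q => (hcomm 0 1 (by decide) q p).eq.symm
          have c12 : f 1 t * f 2 u = f 2 u * f 1 t := (hcomm 1 2 (by decide) t u).eq
          have c02 : ∀ p q, f 2 p * f 0 q = f 0 q * f 2 p := fun p q => (hcomm 0 2 (by decide) q p).eq.symm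
          have e1 : f 0 a * f 1 t * (f 0 b * f 2 u) = f 0 (a * b) * (f 2 u * f 1 t) := by
            rw [map_mul, ← c12, mul_assoc, ← mul_assoc (f 1 t), c01]
            group
          have e2 : (f 0 a * f 1 t)⁻¹ * (f 0 b * f 2 u)⁻¹ = (f 2 u * f 1 t)⁻¹ * f 0 (a⁻¹ * b⁻¹) := by
            have e3 : (f 0 b * f 2 u) * (f 0 a * f 1 t) = f 0 (b * a) * (f 2 u * f 1 t) := by
              rw [map_mul, mul_assoc, ← mul_assoc (f 2 u), c02]
              group
            rw [← mul_inv_rev, e3, mul_inv_rev, ← map_inv, mul_inv_rev b a]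
          rw [mul_assoc, e2, e1, map_mul, map_mul, map_mul, map_mul, map_mul]
          group
        rw [h7] at h6
        exact h6
      rw [hperf] at h5
      exact h5 (mem_top s)
    · exact Or.inr (Or.inr k2)
  · exact Or.inr (Or.inl k1)

/-- the index, when `A` projects onto the factor `0` -/
theorem step (hperf : commutator S = ⊤) (hN : ∀ N : Subgroup S, N.Normal → N = ⊤ ∨ N ≤ center S) {M m : ℕ}
    (hM : M ≤ (center S).index) (hm : MinIx S m) (hne : ∀ i, A.comap (f i) ≠ ⊤)
    (h1 : ∀ s : S, ∃ x, f 0 s * last3 f hcomm x ∈ A) : M * m ≤ A.relIndex (⨆ i, (f i).range) := by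
  rw [← range_sup f hcomm, relIndex_sup A (f 0) (last3 f hcomm) (last3_comm f hcomm), mul_comm M]
  refine Nat.mul_le_mul ?_ ?_
  · apply (hm.prod (hm.prod hm))
    intro h2
    have h3 : ∀ x, ∃ s : S, f 0 s * last3 f hcomm x ∈ A := by
      intro x
      rw [← mem_prj A (f 0) (last3 f hcomm) (last3_comm f hcomm), h2]
      trivial
    rcases graph A f hcomm hperf hN h1 h3 with h4 | h4 | h4
    · exact hne 0 (by rw [eq_top_iff]; exact fun s _ => h4 s)
    · exact hne 1 (by rw [eq_top_iff]; exact fun s _ => h4 s)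
    · exact hne 2 (by rw [eq_top_iff]; exact fun s _ => h4 s)
  · have hnorm : (A.comap (f 0)).Normal := by
      constructor
      intro s hs u
      obtain ⟨x, hx⟩ := h1 u
      have h3 := A.mul_mem (A.mul_mem hx hs) (A.inv_mem hx)
      have h4 : f 0 u * last3 f hcomm x * f 0 s * (f 0 u * last3 f hcomm x)⁻¹ = f 0 (u * s * u⁻¹) := by
        have c1 : last3 f hcomm x * f 0 s = f 0 s * last3 f hcomm x := (last3_comm f hcomm s x).eq.symm
        rw [map_mul, map_mul, map_inv, mul_inv_rev, mul_assoc (f 0 u), c1]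
        group
      rw [h4] at h3
      exact h3
    rcases hN _ hnorm with h2 | h2
    · exact absurd h2 (hne 0)
    · exact hM.trans (Nat.le_of_dvd (Nat.pos_of_ne_zero Subgroup.index_ne_zero_of_finite) (Subgroup.index_dvd_of_le h2))

/-- the index, when `A` does not project onto the factor `0` -/
theorem step' {m : ℕ} (hm : MinIx S m) (h1 : ∃ s : S, ∀ x, f 0 s * last3 f hcomm x ∉ A) :
    m * A.relIndex (last3 f hcomm).range ≤ A.relIndex (⨆ i, (f i).range) := by
  rw [← range_sup f hcomm, sup_comm, relIndex_sup A (last3 f hcomm) (f 0) (fun x s => (last3_comm f hcomm s x).symm),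
    relIndex_range]
  refine Nat.mul_le_mul_right _ (hm _ ?_)
  intro h2
  obtain ⟨s, hs⟩ := h1
  have h3 : s ∈ prj A (last3 f hcomm) (f 0) (fun x s => (last3_comm f hcomm s x).symm) := by rw [h2]; trivial
  obtain ⟨x, hx⟩ := (mem_prj A (last3 f hcomm) (f 0) (fun x s => (last3_comm f hcomm s x).symm)).1 h3
  apply hs x
  rw [(last3_comm f hcomm s x).eq]
  exact hx

end fam

end Cfsg.Agent.H709.IF
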